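import Cfsg.Agent.Lib.Chev.TwistD4RankOne
import Cfsg.Agent.Lib.Chev.TwistD4Gen
import Cfsg.Agent.Lib.Chev.Functorial

/-!
The Heisenberg radical of the parabolic subgroup of `³D₄(q)` over the central node: the identities
used for the bound on the degrees of its representations.
-/

set_option autoImplicit false
set_option maxRecDepth 100000
set_option linter.unusedSectionVars false

open scoped commutatorElement

namespace CfsgLib.D4MinDegree

open Cfsg.Lie Matrix CfsgLib.Chev CfsgLib.Chev.D4Root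

variable {K : Type*} [Field K] [Fintype K] (f : K →+* K)

/-- The fixed field as a type. -/
abbrev FF : Type _ := ↥(fixFld f)

variable {q : ℕ} (hf : ∀ t, f t = t ^ q) (hK : Fintype.card K = q ^ 3) (hq : IsPrimePow q)
include hf hK

omit hK in
lemma ff_pow (a : FF f) : (a : K) ^ q = a := (mem_fixFld f hf).1 a.2

omit hK in
lemma par_ff (k : Fin 6) (a : FF f) : Par q k (a : K) := fun _ => ff_pow f hf a

omit hf hK in
lemma par_big {k : Fin 6} (h : k = 0 ∨ k = 2 ∨ k = 3) (t : K) : Par q k t := fun hs => by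
  rcases size_eq_one.1 hs with rfl | rfl | rfl <;> rcases h with h | h | h <;> exact absurd h (by decide)

/-- The long layers. -/
noncomputable def E (q : ℕ) (k : Fin 6) (a : FF f) : ↥(endoD4 f).fix := el f q k (a : K)

lemma E_add (k : Fin 6) (a b : FF f) : E f q k (a + b) = E f q k a * E f q k b :=
  el_add f hf hK (par_ff f hf k a) (par_ff f hf k b)

lemma E_neg (k : Fin 6) (a : FF f) : E f q k (-a) = (E f q k a)⁻¹ :=
  el_neg f hf hK (par_ff f hf k a)

lemma E_zero (k : Fin 6) : E f q k (0 : FF f) = 1 := el_zero f hf hK k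

lemma E_mem (k : Fin 6) (a : FF f) {j : ℕ} (hj : j ≤ k) : E f q k a ∈ lay f j :=
  el_mem f hf hK (par_ff f hf k a) hj

lemma coe_E (k : Fin 6) (a : FF f) : (E f q k a : GL chevD4.Idx K) = ev q k (a : K) :=
  coe_el f hf hK (par_ff f hf k a)

lemma commute_of_check {i j : ℕ} (hc : chkCommGen tabD4 (sfx i) (sfx j) (sfx 6) = true)
    {g n : ↥(endoD4 f).fix} (hg : g ∈ lay f i) (hn : n ∈ lay f j) : g * n = n * g := by
  have h := lay_comm f hc hg hn
  rw [lay_six, Subgroup.mem_bot] at h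
  exact commutatorElement_eq_one_iff_mul_comm.1 h

/-- The centre of the radical commutes with the radical and the outer layer. -/
lemma comm_lay_five {g n : ↥(endoD4 f).fix} (hg : g ∈ lay f 0) (hn : n ∈ lay f 5) : g * n = n * g :=
  commute_of_check f hf hK (List.all_eq_true.1 chkLayersComm (0, 5, 6) (by simp)) hg hn

lemma radical_comm {g n : ↥(endoD4 f).fix} (hg : g ∈ lay f 1) (hn : n ∈ lay f 1) :
    ⁅g, n⁆ ∈ lay f 5 :=
  lay_comm f (show chkCommGen tabD4 (sfx 1) (sfx 1) (sfx 5) = true by decide +kernel) hg hn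

include hq in
lemma exists_five {n : ↥(endoD4 f).fix} (hn : n ∈ lay f 5) : ∃ z : FF f, n = E f q 5 z := by
  obtain ⟨t, ht, h⟩ := exists_coord f hf hK hq 5 hn
  have h6 : (el f q 5 t)⁻¹ * n ∈ lay f 6 := h
  rw [lay_six, Subgroup.mem_bot, inv_mul_eq_one] at h6
  exact ⟨⟨t, (mem_fixFld f hf).2 (ht (size_eq_one.2 (Or.inr (Or.inr rfl))))⟩, h6.symm⟩

/-- The pairing of the two long layers. -/
lemma conj_one_four (a d : FF f) :
    E f q 1 (-a) * E f q 4 d * E f q 1 a = E f q 4 d * E f q 5 (-(a * d)) := by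
  refine Subtype.ext ?_
  have h := certD4.X_conj (F := K) (r := 14) (s := 22) (by decide +kernel) (by decide +kernel)
    (by decide +kernel) (by decide +kernel) (a : K) (d : K)
  rw [show tabD4.commTerms 14 22 = [(23, 1, 1, 1)] by decide +kernel] at h
  simp only [Subgroup.coe_mul, coe_E f hf hK]
  simpa [D4Root.ev, word] using h

/-- The trace to the fixed field. -/
def tr (x : K) : FF f := ⟨x + x ^ q + (x ^ q) ^ q, by
  rw [mem_fixFld f hf, ← hf, map_add, map_add, hf, hf, hf, pow_cubeD4 hK]; ring⟩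

lemma tr_add (x y : K) : tr f hf hK (x + y) = tr f hf hK x + tr f hf hK y := by
  refine Subtype.ext ?_
  show (x + y) + (x + y) ^ q + ((x + y) ^ q) ^ q =
    x + x ^ q + (x ^ q) ^ q + (y + y ^ q + (y ^ q) ^ q)
  simp only [← hf, map_add]
  ring

lemma tr_smul (a : FF f) (x : K) : tr f hf hK ((a : K) * x) = a * tr f hf hK x := by
  refine Subtype.ext ?_
  show (a : K) * x + ((a : K) * x) ^ q + (((a : K) * x) ^ q) ^ q =
    (a : K) * (x + x ^ q + (x ^ q) ^ q)
  rw [mul_pow, ff_pow f hf a, mul_pow, ff_pow f hf a]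
  ring

include hq in
lemma exists_tr_ne : ∃ x : K, tr f hf hK x ≠ 0 := by
  classical
  by_contra hc
  push Not at hc
  have h2 := hq.two_le
  let P : Polynomial K :=
    Polynomial.X ^ (q ^ 2) + (Polynomial.X ^ q + Polynomial.X)
  have hdeg : P.natDegree = q ^ 2 := by
    have h1 : q < q ^ 2 := by nlinarith
    have h3 : (Polynomial.X ^ q + Polynomial.X : Polynomial K).natDegree ≤ q := by
      refine Polynomial.natDegree_add_le_of_degree_le (by simp) ?_
      rw [Polynomial.natDegree_X]; omega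
    show (Polynomial.X ^ (q ^ 2) + (Polynomial.X ^ q + Polynomial.X) : Polynomial K).natDegree = _
    rw [Polynomial.natDegree_add_eq_left_of_natDegree_lt] <;> simp <;> omega
  have hP : P ≠ 0 := fun h => by
    rw [h, Polynomial.natDegree_zero] at hdeg
    have : 0 < q ^ 2 := pow_pos (by omega) 2
    omega
  have hle : (Finset.univ : Finset K).card ≤ P.natDegree := by
    refine Polynomial.card_le_degree_of_subset_roots fun x _ => ?_
    rw [Polynomial.mem_roots hP, Polynomial.IsRoot.def]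
    have h0 : x + x ^ q + (x ^ q) ^ q = 0 := congrArg Subtype.val (hc x)
    simp only [P, Polynomial.eval_add, Polynomial.eval_pow, Polynomial.eval_X]
    rw [sq, pow_mul]
    linear_combination h0
  rw [Finset.card_univ, hK, hdeg] at hle
  have h5 : (3 : ℕ) ≤ 2 := (Nat.pow_le_pow_iff_right h2).1 hle
  omega

/-- The action of the outer layer on the third one. -/
lemma conj_zero_three (t c : K) :
    el f q 0 (-t) * el f q 3 c * el f q 0 t = el f q 3 c * E f q 4 (tr f hf hK (t * c)) := by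
  refine Subtype.ext ?_
  have p0 : ∀ s : K, Par q 0 s := par_big (q := q) (Or.inl rfl)
  have p3 : ∀ s : K, Par q 3 s := par_big (q := q) (Or.inr (Or.inr rfl))
  simp only [Subgroup.coe_mul, coe_el f hf hK (p0 _), coe_el f hf hK (p3 _), coe_E f hf hK]
  simp only [D4Root.ev, word, List.map_cons, List.map_nil, List.prod_cons, List.prod_nil, mul_one]
  have hX : ∀ r s : ℕ, r < tabD4.n → s < tabD4.n → s ≠ r → s ≠ tabD4.neg r →
      tabD4.commTerms r s = [] → ∀ x y : K, X chevD4 r (-x) * X chevD4 s y * X chevD4 r x =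
        X chevD4 s y := by
    intro r s hr hs h1 h2 h3 x y
    have h := certD4.X_conj (F := K) hr hs h1 h2 x y
    simpa [h3] using h
  have hY : ∀ r s : ℕ, ∀ e : ℤ, r < tabD4.n → s < tabD4.n → s ≠ r → s ≠ tabD4.neg r →
      tabD4.commTerms r s = [(22, e, 1, 1)] → ∀ x y : K,
      X chevD4 r (-x) * X chevD4 s y * X chevD4 r x = X chevD4 s y * X chevD4 22 ((e : K) * (-x) * y) := by
    intro r s e hr hs h1 h2 h3 x y
    have h := certD4.X_conj (F := K) hr hs h1 h2 x y
    simpa [h3] using h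
  have a17 := hY 18 17 (-1) (by decide +kernel) (by decide +kernel) (by decide +kernel)
    (by decide +kernel) (by decide +kernel) t c
  have a20 := hX 18 20 (by decide +kernel) (by decide +kernel) (by decide +kernel)
    (by decide +kernel) (by decide +kernel) t (-(c ^ q))
  have a21 := hX 18 21 (by decide +kernel) (by decide +kernel) (by decide +kernel)
    (by decide +kernel) (by decide +kernel) t (-((c ^ q) ^ q))
  have b17 := hX 13 17 (by decide +kernel) (by decide +kernel) (by decide +kernel)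
    (by decide +kernel) (by decide +kernel) (t ^ q) c
  have b20 := hY 13 20 1 (by decide +kernel) (by decide +kernel) (by decide +kernel)
    (by decide +kernel) (by decide +kernel) (t ^ q) (-(c ^ q))
  have b21 := hX 13 21 (by decide +kernel) (by decide +kernel) (by decide +kernel)
    (by decide +kernel) (by decide +kernel) (t ^ q) (-((c ^ q) ^ q))
  have c17 := hX 12 17 (by decide +kernel) (by decide +kernel) (by decide +kernel)
    (by decide +kernel) (by decide +kernel) ((t ^ q) ^ q) c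
  have c20 := hX 12 20 (by decide +kernel) (by decide +kernel) (by decide +kernel)
    (by decide +kernel) (by decide +kernel) ((t ^ q) ^ q) (-(c ^ q))
  have c21 := hY 12 21 1 (by decide +kernel) (by decide +kernel) (by decide +kernel)
    (by decide +kernel) (by decide +kernel) ((t ^ q) ^ q) (-((c ^ q) ^ q))
  have k22 : ∀ r : ℕ, chkCommute tabD4 r 22 = true → ∀ x y : K,
      X chevD4 r (-x) * X chevD4 22 y * X chevD4 r x = X chevD4 22 y := by
    intro r hr x y
    have hr' : r < tabD4.n := by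
      simp only [chkCommute, Bool.and_eq_true, decide_eq_true_eq] at hr
      tauto
    rw [(certD4.commute_X hr (-x) y).eq, mul_assoc, certD4.X_add hr', neg_add_cancel,
      certD4.X_zero hr', mul_one]
  have m18 : ∀ y, _ := k22 18 (by decide +kernel) t
  have m13 : ∀ y, _ := k22 13 (by decide +kernel) (t ^ q)
  have m12 : ∀ y, _ := k22 12 (by decide +kernel) ((t ^ q) ^ q)
  have n22 : ∀ r : ℕ, chkCommute tabD4 22 r = true → ∀ x y : K,
      X chevD4 22 x * X chevD4 r y = X chevD4 r y * X chevD4 22 x :=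
    fun r hr x y => (certD4.commute_X hr x y).eq
  have n20 := n22 20 (by decide +kernel)
  have n21 := n22 21 (by decide +kernel)
  have q1 : X chevD4 18 (-t) * (X chevD4 13 (-t ^ q) * X chevD4 12 (-((t ^ q) ^ q))) =
      (X chevD4 12 ((t ^ q) ^ q))⁻¹ * ((X chevD4 13 (t ^ q))⁻¹ * (X chevD4 18 t)⁻¹) := by
    rw [certD4.X_inv (by decide +kernel), certD4.X_inv (by decide +kernel),
      certD4.X_inv (by decide +kernel)]
    have u1 := (certD4.commute_X (T := tabD4) (show chkCommute tabD4 12 13 = true by decide +kernel)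
      (-((t ^ q) ^ q)) (-(t ^ q))).eq
    have u2 := (certD4.commute_X (T := tabD4) (show chkCommute tabD4 12 18 = true by decide +kernel)
      (-((t ^ q) ^ q)) (-t)).eq
    have u3 := (certD4.commute_X (T := tabD4) (show chkCommute tabD4 13 18 = true by decide +kernel)
      (-(t ^ q)) (-t)).eq
    generalize X chevD4 18 (-t) = A, X chevD4 13 (-(t ^ q)) = B,
      X chevD4 12 (-((t ^ q) ^ q)) = C at u1 u2 u3 ⊢
    rw [← mul_assoc C B A, u1, mul_assoc B C A, u2, ← mul_assoc B A C, u3, mul_assoc]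
  rw [show (-t) ^ q = -(t ^ q) from neg_pow_q f hf t,
    show (-(t ^ q)) ^ q = -((t ^ q) ^ q) from neg_pow_q f hf _, q1]
  have conv : ∀ r : ℕ, r < tabD4.n → ∀ x : K, X chevD4 r (-x) = (X chevD4 r x)⁻¹ :=
    fun r hr x => (certD4.X_inv hr x).symm
  rw [conv 18 (by decide +kernel)] at a17 a20 a21 m18
  rw [conv 13 (by decide +kernel)] at b17 b20 b21 m13
  rw [conv 12 (by decide +kernel)] at c17 c20 c21 m12
  show _ = X chevD4 17 c * (X chevD4 20 (-(c ^ q)) * X chevD4 21 (-((c ^ q) ^ q))) *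
    X chevD4 22 (t * c + (t * c) ^ q + ((t * c) ^ q) ^ q)
  have e1 : t * c = ((-1 : ℤ) : K) * (-t) * c := by push_cast; ring
  have e2 : (t * c) ^ q = ((1 : ℤ) : K) * (-t ^ q) * -(c ^ q) := by push_cast; rw [mul_pow]; ring
  have e3 : ((t * c) ^ q) ^ q = ((1 : ℤ) : K) * (-(t ^ q) ^ q) * -((c ^ q) ^ q) := by
    push_cast; rw [mul_pow, mul_pow]; ring
  rw [e3, e2, e1, ← certD4.X_add (by decide +kernel : 22 < tabD4.n),
    ← certD4.X_add (by decide +kernel : 22 < tabD4.n)]
  have UQ := n20 (((-1 : ℤ) : K) * (-t) * c) (-(c ^ q))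
  have UR := n21 (((-1 : ℤ) : K) * (-t) * c) (-((c ^ q) ^ q))
  have VR := n21 (((1 : ℤ) : K) * (-t ^ q) * -(c ^ q)) (-((c ^ q) ^ q))
  generalize X chevD4 18 t = A, X chevD4 13 (t ^ q) = B, X chevD4 12 ((t ^ q) ^ q) = C,
    X chevD4 17 c = P, X chevD4 20 (-(c ^ q)) = Q, X chevD4 21 (-((c ^ q) ^ q)) = R at *
  generalize hU : X chevD4 22 (((-1 : ℤ) : K) * (-t) * c) = U,
    hV : X chevD4 22 (((1 : ℤ) : K) * (-t ^ q) * -(c ^ q)) = V,
    hW : X chevD4 22 (((1 : ℤ) : K) * (-(t ^ q) ^ q) * -((c ^ q) ^ q)) = W at *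
  have BU : B⁻¹ * U * B = U := by rw [← hU]; exact m13 _
  have CU : C⁻¹ * U * C = U := by rw [← hU]; exact m12 _
  have CV : C⁻¹ * V * C = V := by rw [← hV]; exact m12 _
  calc C⁻¹ * (B⁻¹ * A⁻¹) * (P * (Q * R)) * (A * (B * C))
      = C⁻¹ * B⁻¹ * ((A⁻¹ * P * A) * (A⁻¹ * Q * A) * (A⁻¹ * R * A)) * B * C := by group
    _ = C⁻¹ * (B⁻¹ * P * B * (B⁻¹ * U * B) * (B⁻¹ * Q * B) * (B⁻¹ * R * B)) * C := by
      rw [a17, a20, a21]; group
    _ = C⁻¹ * P * C * (C⁻¹ * U * C) * (C⁻¹ * Q * C) * (C⁻¹ * V * C) * (C⁻¹ * R * C) := by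
      rw [b17, BU, b20, b21]; group
    _ = P * (U * Q) * (V * R) * W := by rw [c17, CU, c20, CV, c21]; group
    _ = P * Q * (U * R) * V * W := by rw [UQ, VR]; group
    _ = P * (Q * R) * (U * V * W) := by rw [UR]; group

include hq in
lemma exists_norm {m : FF f} (hm : m ≠ 0) : ∃ v : K, v * v ^ q * (v ^ q) ^ q = m := by
  classical
  have h2 := hq.two_le
  have hmK : (m : K) ≠ 0 := fun h => hm (Subtype.ext h)
  obtain ⟨g, hg⟩ := IsCyclic.exists_ofOrder_eq_natCard (α := Kˣ)
  rw [Nat.card_units, Nat.card_eq_fintype_card, hK] at hg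
  have hgen : ∀ x : Kˣ, x ∈ Subgroup.zpowers g := by
    intro x
    rw [(Subgroup.eq_top_of_card_eq _ (by
      rw [Nat.card_zpowers, hg, Nat.card_units, Nat.card_eq_fintype_card, hK])
        : Subgroup.zpowers g = ⊤)]
    trivial
  obtain ⟨i, hi⟩ := mem_powers_iff_mem_zpowers.2 (hgen (Units.mk0 _ hmK))
  change g ^ i = _ at hi
  have hd : q ^ 3 - 1 = (q - 1) * (1 + q + q * q) := by
    obtain ⟨r, rfl⟩ : ∃ r, q = r + 1 := ⟨q - 1, by omega⟩
    simp only [Nat.add_sub_cancel]
    exact Nat.sub_eq_of_eq_add (by ring)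
  have h1 : g ^ (i * (q - 1)) = 1 := by
    have e : (Units.mk0 (m : K) hmK) ^ (q - 1) = 1 := by
      refine Units.ext ?_
      rw [Units.val_pow_eq_pow_val, Units.val_mk0, Units.val_one]
      have e2 : (m : K) ^ (q - 1) * m = m := by
        rw [← pow_succ, Nat.sub_add_cancel (by omega), ff_pow f hf m]
      exact mul_right_cancel₀ hmK (e2.trans (one_mul _).symm)
    rw [pow_mul, hi, e]
  have h3 : (1 + q + q * q) ∣ i := by
    have h := orderOf_dvd_of_pow_eq_one h1
    rw [hg, hd, mul_comm i] at h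
    exact Nat.dvd_of_mul_dvd_mul_left (by omega) h
  obtain ⟨j, rfl⟩ := h3
  refine ⟨((g ^ j : Kˣ) : K), ?_⟩
  have := congrArg Units.val hi
  rw [Units.val_pow_eq_pow_val, Units.val_mk0] at this
  rw [← this, Units.val_pow_eq_pow_val]
  simp only [← pow_mul, ← pow_add]
  ring_nf

include hq in
/-- The outer layer moves the first layer onto the fourth one with any nonzero ratio. -/
lemma exists_conj_one {μ : FF f} (hμ : μ ≠ 0) : ∃ t : K, ∀ a : FF f, ∃ x y : K, ∃ z : FF f,
    el f q 0 t * E f q 1 a * (el f q 0 t)⁻¹ =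
      E f q 1 a * el f q 2 x * el f q 3 y * E f q 4 (μ * a) * E f q 5 z := by
  have p0 : ∀ s : K, Par q 0 s := par_big (q := q) (Or.inl rfl)
  obtain ⟨v₀, hv₀⟩ := exists_norm f hf hK hq (inv_ne_zero (neg_ne_zero.2 hμ))
  have hμ' : ((-μ : FF f) : K) ≠ 0 := fun h => neg_ne_zero.2 hμ (Subtype.ext h)
  set u₀ : K := (((-μ)⁻¹ : FF f) : K) with hu₀
  have hu0 : u₀ ≠ 0 := by
    simp only [hu₀, Subfield.coe_inv]
    exact inv_ne_zero hμ'
  have hv0 : v₀ ≠ 0 := fun h => hu0 (by rw [← hv₀, h, zero_mul, zero_mul])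
  refine ⟨v₀ ^ 2 / u₀, fun a => ?_⟩
  by_cases ha : a = 0
  · subst ha
    refine ⟨0, 0, 0, ?_⟩
    simp [E_zero f hf hK, el_zero f hf hK]
  set s : K := ((-a : FF f) : K) / u₀ with hs
  have hs0 : s ≠ 0 := div_ne_zero (fun h => neg_ne_zero.2 ha (Subtype.ext h)) hu0
  have hu0q : u₀ ^ q = u₀ := ff_pow f hf _
  have hsq : s ^ q = s := by rw [hs, div_pow, ff_pow f hf, hu0q]
  set v : Kˣ := Units.mk0 (v₀ * s) (mul_ne_zero hv0 hs0)
  set u : Kˣ := Units.mk0 (u₀ * s ^ 2) (mul_ne_zero hu0 (pow_ne_zero 2 hs0))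
  have hu : u ^ q = u := Units.ext (by
    simp only [u, Units.val_pow_eq_pow_val, Units.val_mk0]
    rw [mul_pow, hu0q, ← pow_mul, mul_comm 2, pow_mul, hsq])
  have hN : (v : K) * (v : K) ^ q * ((v : K) ^ q) ^ q = u₀ * s ^ 3 := by
    simp only [v, Units.val_mk0, mul_pow, hsq]
    rw [← hv₀]
    ring
  have c0 : chi q 0 (v : K) (u : K) = v₀ ^ 2 / u₀ := by
    show (v : K) ^ 2 / u = _
    simp only [v, u, Units.val_mk0]
    field_simp
  have c1 : chi q 1 (v : K) (u : K) = ((-a : FF f) : K) := by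
    show (u : K) ^ 2 / ((v : K) * (v : K) ^ q * ((v : K) ^ q) ^ q) = _
    rw [hN]
    simp only [u, Units.val_mk0]
    rw [show ((-a : FF f) : K) = s * u₀ by rw [hs]; field_simp]
    field_simp
  have c4 : chi q 4 (v : K) (u : K) = ((μ * a : FF f) : K) := by
    show (v : K) * (v : K) ^ q * ((v : K) ^ q) ^ q / u = _
    rw [hN]
    simp only [u, Units.val_mk0]
    have e : ((μ * a : FF f) : K) = s := by
      rw [hs, hu₀]
      push_cast
      field_simp
    rw [e]
    field_simp
  have c5 : Par q 5 (chi q 5 (v : K) (u : K)) := chi_par hK hu 5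
  refine ⟨chi q 2 (v : K) (u : K), chi q 3 (v : K) (u : K) * -1,
    ⟨chi q 5 (v : K) (u : K) * -1, (mem_fixFld f hf).2
      (par_mul (k := 5) c5 (par_neg f hf (par_one 5)) (size_eq_one.2 (Or.inr (Or.inr rfl))))⟩, ?_⟩
  have hba := congrArg (fun x => tel f q v u * x * (tel f q v u)⁻¹) (comm_ba f hf hK)
  simp only [commutatorElement_def] at hba
  have hd : ∀ x y : ↥(endoD4 f).fix, tel f q v u * (x * y) * (tel f q v u)⁻¹ =
      tel f q v u * x * (tel f q v u)⁻¹ * (tel f q v u * y * (tel f q v u)⁻¹) := fun x y => by group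
  have hi : ∀ x : ↥(endoD4 f).fix, tel f q v u * x⁻¹ * (tel f q v u)⁻¹ =
      (tel f q v u * x * (tel f q v u)⁻¹)⁻¹ := fun x => by group
  simp only [hd, hi, tel_conj f hf hK hu (par_one _),
    tel_conj f hf hK hu (par_neg f hf (par_one _))] at hba
  rw [c0, c1, c4] at hba
  simp only [mul_one] at hba
  simp only [show ∀ (b : FF f) (k : Fin 6), el f q k (b : K) = E f q k b from fun _ _ => rfl,
    E_neg f hf hK, inv_inv] at hba
  set t₀ : K := v₀ ^ 2 / u₀
  calc el f q 0 t₀ * E f q 1 a * (el f q 0 t₀)⁻¹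
      = E f q 1 a * ((E f q 1 a)⁻¹ * el f q 0 t₀ * E f q 1 a * (el f q 0 t₀)⁻¹) := by group
    _ = _ := by
      rw [hba]
      simp only [mul_assoc]
      rfl

/-- The Weyl element of the outer node. -/
noncomputable def wA : ↥(endoD4 f).fix := (rkA f hf hK).φ (wel K)

/-- The Weyl element of the central node. -/
noncomputable def wB : ↥(endoD4 f).fix := (rkB f hf hK).φ (wel ↥(fixFld f))

lemma maps_long {w : ↥(endoD4 f).fix} {i j : Fin 6} (hi : (orb i).size = 1)
    (hj : (orb j).size = 1) {r s : ℕ}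
    (hri : ∀ t : K, ev q i t = X chevD4 r t) (hsj : ∀ t : K, ev q j t = X chevD4 s t)
    (hs : s < tabD4.n ∧ twistD4a.rt s = s ∧ twistD4a.ep s = 1 ∧ twistD4a.dg s = 1)
    (hm : Maps chevD4 (w : GL chevD4.Idx K) r s) :
    ∃ c : FF f, c ≠ 0 ∧ ∀ a : FF f, w * E f q i a * w⁻¹ = E f q j (c * a) := by
  obtain ⟨c, hc0, hc⟩ := hm
  have h1 : (w * E f q i (1 : FF f) * w⁻¹ : ↥(endoD4 f).fix).1 = X chevD4 s c := by
    rw [Subgroup.coe_mul, Subgroup.coe_mul, Subgroup.coe_inv, coe_E f hf hK, hri, hc,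
      OneMemClass.coe_one, mul_one]
  have hfx : X chevD4 s c ∈ (endoD4 f).fix := h1 ▸ SetLike.coe_mem _
  have hcq : c ^ q = c := by
    obtain ⟨hm, he⟩ := (endoD4 f).mem_fix.1 hfx
    rw [(endoD4 f).act_X hs.1, τD4_eq f hf hs.2.2] at he
    change X chevD4 (twistD4a.rt s) (c ^ q) = _ at he
    rw [hs.2.1] at he
    exact certD4.X_inj hs.1 he
  refine ⟨⟨c, (mem_fixFld f hf).2 hcq⟩, fun h => hc0 (congrArg Subtype.val h), fun a =>
    Subtype.ext ?_⟩
  rw [Subgroup.coe_mul, Subgroup.coe_mul, Subgroup.coe_inv, coe_E f hf hK, coe_E f hf hK, hri,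
    hsj, hc]
  rfl

lemma maps_wA : ∀ p ∈ ([(1, 4), (4, 1), (5, 5)] : List (Fin 6 × Fin 6)),
    ∃ c : FF f, c ≠ 0 ∧ ∀ a : FF f, wA f hf hK * E f q p.1 a * (wA f hf hK)⁻¹ =
      E f q p.2 (c * a) := by
  intro p hp
  simp only [List.mem_cons, List.not_mem_nil, or_false] at hp
  have h := fun r hr => (rkA f hf hK).wel_maps r hr
  rcases hp with rfl | rfl | rfl
  · refine maps_long f hf hK (i := 1) (j := 4) (by decide +kernel) (by decide +kernel) (r := 14) (s := 22)
      (fun t => by simp [D4Root.ev, word]) (fun t => by simp [D4Root.ev, word]) (by decide +kernel) ?_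
    have e : rword tabD4 [0, 2, 3] 14 = 22 := by decide +kernel
    exact e ▸ h 14 (by decide +kernel)
  · refine maps_long f hf hK (i := 4) (j := 1) (by decide +kernel) (by decide +kernel) (r := 22) (s := 14)
      (fun t => by simp [D4Root.ev, word]) (fun t => by simp [D4Root.ev, word]) (by decide +kernel) ?_
    have e : rword tabD4 [0, 2, 3] 22 = 14 := by decide +kernel
    exact e ▸ h 22 (by decide +kernel)
  · refine maps_long f hf hK (i := 5) (j := 5) (by decide +kernel) (by decide +kernel) (r := 23) (s := 23)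
      (fun t => by simp [D4Root.ev, word]) (fun t => by simp [D4Root.ev, word]) (by decide +kernel) ?_
    have e : rword tabD4 [0, 2, 3] 23 = 23 := by decide +kernel
    exact e ▸ h 23 (by decide +kernel)

lemma maps_wB : ∀ p ∈ ([(4, 5), (5, 4)] : List (Fin 6 × Fin 6)),
    ∃ c : FF f, c ≠ 0 ∧ ∀ a : FF f, wB f hf hK * E f q p.1 a * (wB f hf hK)⁻¹ =
      E f q p.2 (c * a) := by
  intro p hp
  simp only [List.mem_cons, List.not_mem_nil, or_false] at hp
  have h := fun r hr => (rkB f hf hK).wel_maps r hr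
  rcases hp with rfl | rfl
  · refine maps_long f hf hK (i := 4) (j := 5) (by decide +kernel) (by decide +kernel) (r := 22) (s := 23)
      (fun t => by simp [D4Root.ev, word]) (fun t => by simp [D4Root.ev, word]) (by decide +kernel) ?_
    have e : rword tabD4 [1] 22 = 23 := by decide +kernel
    exact e ▸ h 22 (by decide +kernel)
  · refine maps_long f hf hK (i := 5) (j := 4) (by decide +kernel) (by decide +kernel) (r := 23) (s := 22)
      (fun t => by simp [D4Root.ev, word]) (fun t => by simp [D4Root.ev, word]) (by decide +kernel) ?_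
    have e : rword tabD4 [1] 23 = 22 := by decide +kernel
    exact e ▸ h 23 (by decide +kernel)

include hq in
lemma exists_norm_one : ∃ v : Kˣ, (v : K) * (v : K) ^ q * ((v : K) ^ q) ^ q = 1 ∧ (v : K) ^ 2 ≠ 1 := by
  classical
  have h2 := hq.two_le
  obtain ⟨g, hg⟩ := IsCyclic.exists_ofOrder_eq_natCard (α := Kˣ)
  rw [Nat.card_units, Nat.card_eq_fintype_card, hK] at hg
  have hd : q ^ 3 - 1 = (q - 1) * (1 + q + q * q) := by
    obtain ⟨r, rfl⟩ : ∃ r, q = r + 1 := ⟨q - 1, by omega⟩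
    simp only [Nat.add_sub_cancel]
    exact Nat.sub_eq_of_eq_add (by ring)
  rw [hd] at hg
  have ho : orderOf (g ^ (q - 1)) = 1 + q + q * q := by
    rw [orderOf_pow' _ (by omega), hg, Nat.gcd_eq_right (Dvd.intro _ rfl),
      Nat.mul_div_cancel_left _ (by omega)]
  refine ⟨g ^ (q - 1), ?_, ?_⟩
  · have h := congrArg Units.val (pow_orderOf_eq_one (g ^ (q - 1)))
    rw [ho, Units.val_pow_eq_pow_val, Units.val_one] at h
    rw [← h, ← pow_mul, pow_add, pow_add, pow_one]
  · intro h
    have h' : (g ^ (q - 1)) ^ 2 = 1 := Units.ext (by rw [Units.val_pow_eq_pow_val, h]; rfl)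
    have := Nat.le_of_dvd two_pos (orderOf_dvd_of_pow_eq_one h')
    omega

end CfsgLib.D4MinDegree
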