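import Cfsg.Agent.Lib.D4MinDegree.Rep
import Cfsg.Agent.Lib.Char.Central
import Cfsg.Agent.Lib.Chev.All

/-!
The degrees of the nonlinear irreducible representations of `³D₄(q)`.
-/

set_option autoImplicit false

namespace CfsgLib.D4MinDegree

open Cfsg.Lie CfsgLib.Chev CfsgLib.Chev.D4Root Module

theorem coprime_of_int {a b : ℕ} (u v : ℤ) (h : u * a + v * b = 1) : a.Coprime b :=
  Nat.isCoprime_iff_coprime.1 ⟨u, v, h⟩

theorem gcd_dvd_three {a b : ℕ} (u v : ℤ) (h : u * a + v * b = 3) : a.gcd b ∣ 3 := by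
  have h1 : ((a.gcd b : ℕ) : ℤ) ∣ ((3 : ℕ) : ℤ) := by
    rw [show ((3 : ℕ) : ℤ) = u * a + v * b from h.symm]
    exact dvd_add (dvd_mul_of_dvd_right (Int.natCast_dvd_natCast.2 (Nat.gcd_dvd_left a b)) u)
      (dvd_mul_of_dvd_right (Int.natCast_dvd_natCast.2 (Nat.gcd_dvd_right a b)) v)
  exact_mod_cast h1

/-- The critical degree does not divide the order of `³D₄(q)`. -/
theorem not_dvd_order {q : ℕ} (h2 : 2 ≤ q) :
    ¬ (q ^ 4 + q ^ 3 + 1) ∣ q ^ 12 * (q ^ 2 - 1) * (q ^ 6 - 1) * (q ^ 8 + q ^ 4 + 1) := by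
  intro hd
  set M := q ^ 4 + q ^ 3 + 1 with hM
  set a := q - 1 with ha
  set c := q ^ 2 + q + 1 with hc
  obtain ⟨d, hdd⟩ : ∃ d, q ^ 2 = q + d := ⟨q ^ 2 - q, (Nat.add_sub_cancel' (Nat.le_self_pow two_ne_zero q)).symm⟩
  obtain ⟨e, hee⟩ : ∃ e, q ^ 4 = q ^ 2 + e :=
    ⟨q ^ 4 - q ^ 2, (Nat.add_sub_cancel' (Nat.pow_le_pow_right (by omega) (by omega))).symm⟩
  have aZ : (a : ℤ) = q - 1 := by rw [ha, Nat.cast_sub (by omega)]; simp
  have dZ : (d : ℤ) = (q : ℤ) ^ 2 - q := by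
    have : ((q ^ 2 : ℕ) : ℤ) = ((q + d : ℕ) : ℤ) := by rw [hdd]
    push_cast at this
    linarith
  have eZ : (e : ℤ) = (q : ℤ) ^ 4 - (q : ℤ) ^ 2 := by
    have : ((q ^ 4 : ℕ) : ℤ) = ((q ^ 2 + e : ℕ) : ℤ) := by rw [hee]
    push_cast at this
    linarith
  have hN : q ^ 12 * (q ^ 2 - 1) * (q ^ 6 - 1) * (q ^ 8 + q ^ 4 + 1) =
      q ^ 12 * (q + 1) ^ 2 * (d + 1) ^ 2 * (e + 1) * (a ^ 2 * c ^ 2) := by
    have h6 : 1 ≤ q ^ 6 := Nat.one_le_pow _ _ (by omega)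
    have h4 : 1 ≤ q ^ 2 := Nat.one_le_pow _ _ (by omega)
    apply Nat.cast_injective (R := ℤ)
    push_cast [Nat.cast_sub h6, Nat.cast_sub h4]
    rw [aZ, dZ, eZ, hc]
    push_cast
    ring
  rw [hN] at hd
  have c0 : M.Coprime q := coprime_of_int 1 (-((q : ℤ) ^ 3 + (q : ℤ) ^ 2)) (by rw [hM]; push_cast; ring)
  have c2 : M.Coprime (q + 1) := coprime_of_int 1 (-(q : ℤ) ^ 3) (by rw [hM]; push_cast; ring)
  have c6 : M.Coprime (d + 1) :=
    coprime_of_int ((q : ℤ) - 1) (-((q : ℤ) ^ 3 + (q : ℤ) ^ 2 - (q : ℤ) - 2))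
      (by rw [hM]; push_cast; rw [dZ]; ring)
  have c12 : M.Coprime (e + 1) :=
    coprime_of_int (-((q : ℤ) - 1)) (q : ℤ)
      (by rw [hM]; push_cast; rw [eZ]; ring)
  have hd' : M ∣ a ^ 2 * c ^ 2 :=
    ((((c0.pow_right 12).mul_right (c2.pow_right 2)).mul_right (c6.pow_right 2)).mul_right
      c12).dvd_of_dvd_mul_left hd
  have g1 : M.gcd a ∣ 3 := gcd_dvd_three 1 (-((q : ℤ) ^ 3 + 2 * (q : ℤ) ^ 2 + 2 * q + 2))
    (by rw [hM]; push_cast; rw [aZ]; ring)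
  have g3 : M.gcd c ∣ 3 := gcd_dvd_three (-((q : ℤ) - 1)) (1 + ((q : ℤ) - 1) * ((q : ℤ) ^ 2 - 1))
    (by rw [hM, hc]; push_cast; ring)
  have h81 : M ∣ 3 ^ 4 := by
    have hx : M.gcd (a ^ 2 * c ^ 2) = M := Nat.gcd_eq_left hd'
    rw [← hx]
    refine (Nat.gcd_mul_right_dvd_mul_gcd M (a ^ 2) (c ^ 2)).trans ?_
    rw [show (3 : ℕ) ^ 4 = 3 ^ 2 * 3 ^ 2 by norm_num]
    have key : ∀ x : ℕ, M.gcd x ∣ 3 → M.gcd (x ^ 2) ∣ 3 ^ 2 := fun x hx => by
      rw [sq, sq]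
      exact (Nat.gcd_mul_right_dvd_mul_gcd M x x).trans (mul_dvd_mul hx hx)
    exact mul_dvd_mul (key a g1) (key c g3)
  have hle : M ≤ 81 := Nat.le_of_dvd (by norm_num) (by simpa using h81)
  have hq3 : q < 3 := by
    by_contra hq
    have : 3 ^ 4 + 3 ^ 3 + 1 ≤ M := by
      rw [hM]; gcongr <;> omega
    omega
  obtain rfl : q = 2 := by omega
  norm_num [hM] at h81

variable {K : Type*} [Field K] [Fintype K]

open CfsgLib.Char in
/-- The degree bound. -/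
theorem degree_bound {q : ℕ} (hq : IsPrimePow q) (hK : Fintype.card K = q ^ 3) {f : K →+* K}
    (hf : ∀ t, f t = t ^ q) {k : ℕ} (ρ : Representation ℂ ↥(endoD4 f).fix (Fin k → ℂ))
    (hirr : ρ.IsIrreducible) (hk : 2 ≤ k) (hsimp : IsSimpleGroup ↥(endoD4 f).fix) :
    q * (q ^ 4 - q ^ 2 + 1) ≤ k := by
  have h2 := hq.two_le
  haveI := hirr
  have hinj : Function.Injective ρ := by
    have hker : ρ.ker = ⊥ := by
      rcases hsimp.eq_bot_or_eq_top_of_normal ρ.ker inferInstance with h | h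
      · exact h
      · exfalso
        have hid : ∀ g, ρ g = 1 := fun g => h.ge (Subgroup.mem_top g)
        let v : Fin k → ℂ := Pi.single ⟨0, by omega⟩ 1
        let W : Subrepresentation ρ :=
          ⟨Submodule.span ℂ {v}, fun g x hx => by rw [hid g]; exact hx⟩
        have hW : finrank ℂ W.toSubmodule = 1 := finrank_span_singleton (by simp [v])
        rcases IsSimpleOrder.eq_bot_or_eq_top W with h' | h'
        · rw [h'] at hW
          exact absurd hW (by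
            rw [show (⊥ : Subrepresentation ρ).toSubmodule = ⊥ from rfl, finrank_bot]; omega)
        · rw [h', show (⊤ : Subrepresentation ρ).toSubmodule = ⊤ from rfl, finrank_top,
            finrank_fin_fun] at hW
          omega
    exact (MonoidHom.ker_eq_bot_iff ρ).1 hker
  have hnt : ∃ a : FF f, ρ (E f q 5 a) ≠ 1 := by
    refine ⟨1, fun h => ?_⟩
    have h1 : E f q 5 (1 : FF f) = 1 := hinj (h.trans (map_one ρ).symm)
    have h2' : el f q 5 (((1 : FF f) : K)) ∈ lay f ((5 : Fin 6).val + 1) := by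
      rw [show el f q 5 (((1 : FF f) : K)) = 1 from h1]
      exact one_mem _
    exact one_ne_zero (el_eq_zero f hf hK (par_ff f hf 5 1) h2')
  have hlow := degree_ge f hf hK hq ρ hnt
  rw [finrank_fin_fun] at hlow
  by_contra hlt
  obtain ⟨n, hn, -, hndvd⟩ := exists_degree_dvd_card (isIrrCharacter_character ρ)
  have hnk : n = k := by
    rw [Representation.char_one, finrank_fin_fun] at hn
    exact_mod_cast hn.symm
  subst hnk
  rw [card_twistD4 f hf hK hq] at hndvd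
  have e : q * (q ^ 4 - q ^ 2 + 1) = q ^ 5 - q ^ 3 + q := by
    rw [mul_add, mul_one, Nat.mul_sub, ← pow_succ', ← pow_succ']
  have h35 : q ^ 3 ≤ q ^ 5 := Nat.pow_le_pow_right (by omega) (by omega)
  have hk' : n = (q - 1) * (q ^ 4 + q ^ 3 + 1) := by
    obtain ⟨r, rfl⟩ : ∃ r, q = r + 1 := ⟨q - 1, by omega⟩
    have hz : (r + 1) ^ 5 + r = r * ((r + 1) ^ 4 + (r + 1) ^ 3 + 1) + (r + 1) ^ 3 := by ring
    simp only [Nat.add_sub_cancel]
    omega
  exact not_dvd_order h2 ((hk' ▸ Dvd.intro_left _ rfl : q ^ 4 + q ^ 3 + 1 ∣ n).trans hndvd)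

end CfsgLib.D4MinDegree
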