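import Cfsg.Agent.Lib.D4MinDegree.Group
import Cfsg.Agent.Lib.SUMinDegree.Eigen

/-!
A representation of `³D₄(q)` in which the centre of the Heisenberg radical acts nontrivially has
degree at least `q⁵ - q³ + q - 1`.
-/

set_option autoImplicit false
set_option maxRecDepth 100000
set_option linter.unusedSectionVars false

open scoped commutatorElement

namespace CfsgLib.D4MinDegree

open Cfsg.Lie Matrix CfsgLib.Chev CfsgLib.Chev.D4Root CfsgLib.SUMinDegree Module

theorem mulShift_bijective {F : Type*} [Field F] [Fintype F] {χ : AddChar F ℂ} (hχ : χ ≠ 1) :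
    Function.Bijective (AddChar.mulShift χ) := by
  refine (Fintype.bijective_iff_injective_and_card _).2 ⟨fun a b h => ?_, AddChar.card_eq.symm⟩
  by_contra hne
  refine hχ (DFunLike.ext _ _ fun x => ?_)
  have h1 := DFunLike.congr_fun h (x / (a - b))
  rw [AddChar.mulShift_apply, AddChar.mulShift_apply,
    show a * (x / (a - b)) = x + b * (x / (a - b)) by
      field_simp [sub_ne_zero.2 hne]; ring, AddChar.map_add_eq_mul] at h1
  rw [AddChar.one_apply]
  exact mul_right_cancel₀ (χ.val_isUnit _).ne_zero (h1.trans (one_mul _).symm)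

theorem mulShift_ne_one {F : Type*} [Field F] [Fintype F] {χ : AddChar F ℂ} (hχ : χ ≠ 1) {a : F}
    (ha : a ≠ 0) : χ.mulShift a ≠ 1 :=
  fun h => ha ((mulShift_bijective hχ).1 (h.trans (AddChar.mulShift_zero χ).symm))

variable {K : Type*} [Field K] [Fintype K] (f : K →+* K)
variable {q : ℕ} (hf : ∀ t, f t = t ^ q) (hK : Fintype.card K = q ^ 3) (hq : IsPrimePow q)

noncomputable local instance instFintypeFF : Fintype (FF f) := Fintype.ofFinite _

include hf hK hq in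
theorem card_ff : Fintype.card (FF f) = q := by
  have h : Nat.card {t : K // t ^ q = t} = q := card_pow_eq_self (by have := hq.two_le; omega) (by
    rw [hK]; simpa using Nat.sub_dvd_pow_sub_pow q 1 3)
  rw [← Nat.card_eq_fintype_card]
  exact (Nat.card_congr (Equiv.subtypeEquivRight fun t => mem_fixFld f hf)).trans h

variable {V : Type*} [AddCommGroup V] [Module ℂ V] [FiniteDimensional ℂ V]
  (ρ : Representation ℂ ↥(endoD4 f).fix V)

theorem finrank_le_of_map {G : Type*} [Group G] (σ : Representation ℂ G V) (g : G)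
    {A B : Submodule ℂ V} (h : ∀ v ∈ A, σ g v ∈ B) : finrank ℂ A ≤ finrank ℂ B :=
  LinearMap.finrank_le_finrank_of_injective (f := (σ g).restrict h) fun a b e => Subtype.ext (by
    have h1 : σ g⁻¹ (σ g (a : V)) = σ g⁻¹ (σ g (b : V)) := congrArg (σ g⁻¹) (congrArg Subtype.val e)
    simpa [← Module.End.mul_apply, ← map_mul] using h1)

theorem apply_mul {G : Type*} [Group G] (σ : Representation ℂ G V) (g h : G) (v : V) :
    σ (g * h) v = σ g (σ h v) := by rw [map_mul]; rfl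

/-- An element carries weight vectors to weight vectors. -/
theorem map_weight {G A : Type*} [Group G] [AddCommGroup A] [Fintype A]
    (σ : Representation ℂ G V) {g : G} {T T' : A → G} {e : A → A}
    (h : ∀ a, T a * g = g * T' (e a)) {ψ φ : A → ℂ} (hφ : ∀ a, φ a = ψ (e a)) {v : V}
    (hv : v ∈ weight σ T' ψ) : σ g v ∈ weight σ T φ := by
  rw [mem_weight] at hv ⊢
  intro a
  rw [← apply_mul, h, apply_mul, hv, map_smul, hφ]

/-- The weight spaces of the centre. -/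
noncomputable def W5 (q : ℕ) (ψ : AddChar (FF f) ℂ) : Submodule ℂ V := weight ρ (E f q 5) ψ

/-- The weight spaces of the fourth layer on the vectors fixed by the centre. -/
noncomputable def U (q : ℕ) (δ : AddChar (FF f) ℂ) : Submodule ℂ V :=
  W5 f ρ q 1 ⊓ weight ρ (E f q 4) δ

/-- The vectors of a weight space of the fourth layer fixed by the third layer. -/
noncomputable def P (q : ℕ) (δ : AddChar (FF f) ℂ) : Submodule ℂ V :=
  U f ρ q δ ⊓ weight ρ (el f q 3) (1 : AddChar K ℂ)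

include hf hK hq

lemma fixed_five {v : V} (hv : v ∈ W5 f ρ q 1) {z : ↥(endoD4 f).fix} (hz : z ∈ lay f 5) :
    ρ z v = v := by
  obtain ⟨a, rfl⟩ := exists_five f hf hK hq hz
  rw [(mem_weight ρ _).1 hv a, AddChar.one_apply, one_smul]

lemma apply_comm {v : V} (hv : v ∈ W5 f ρ q 1) {g n : ↥(endoD4 f).fix}
    (h : ⁅n⁻¹, g⁻¹⁆ ∈ lay f 5) : ρ n (ρ g v) = ρ g (ρ n v) := by
  rw [← apply_mul, ← apply_mul, show n * g = g * n * ⁅n⁻¹, g⁻¹⁆ by
    rw [commutatorElement_def]; group, apply_mul, fixed_five f hf hK hq ρ hv h]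

lemma w5_stable {g : ↥(endoD4 f).fix} (hg : g ∈ lay f 0) {ψ : AddChar (FF f) ℂ} {v : V}
    (hv : v ∈ W5 f ρ q ψ) : ρ g v ∈ W5 f ρ q ψ :=
  map_weight ρ (e := id) (fun a => (comm_lay_five f hf hK hg (E_mem f hf hK 5 a le_rfl)).symm)
    (fun _ => rfl) hv

lemma u_stable_one {g : ↥(endoD4 f).fix} (hg : g ∈ lay f 1) {δ : AddChar (FF f) ℂ} {v : V}
    (hv : v ∈ U f ρ q δ) : ρ g v ∈ U f ρ q δ := by
  refine ⟨w5_stable f hf hK hq ρ (lay_anti f (by omega) hg) hv.1, (mem_weight ρ _).2 fun a => ?_⟩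
  rw [apply_comm f hf hK hq ρ hv.1 (radical_comm f hf hK
    (inv_mem (E_mem f hf hK 4 a (by decide))) (inv_mem hg)), (mem_weight ρ _).1 hv.2 a, map_smul]

lemma u_stable_zero {g : ↥(endoD4 f).fix} (hg : g ∈ lay f 0) {δ : AddChar (FF f) ℂ} {v : V}
    (hv : v ∈ U f ρ q δ) : ρ g v ∈ U f ρ q δ := by
  refine ⟨w5_stable f hf hK hq ρ hg hv.1, (mem_weight ρ _).2 fun a => ?_⟩
  rw [apply_comm f hf hK hq ρ hv.1 ?_, (mem_weight ρ _).1 hv.2 a, map_smul]
  have h : ⁅g⁻¹, (E f q 4 a)⁻¹⁆ ∈ lay f 5 :=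
    commUN f (j := 4) (k := 5) (by simp) (inv_mem hg) (inv_mem (E_mem f hf hK 4 a le_rfl))
  rw [← commutatorElement_inv]
  exact inv_mem h

omit hK hq in
lemma conj_flip {g : ↥(endoD4 f).fix} {i j : Fin 6} {c : FF f} (hc : c ≠ 0)
    (h : ∀ a, g * E f q i a * g⁻¹ = E f q j (c * a)) (a : FF f) :
    E f q j a * g = g * E f q i (c⁻¹ * a) := by
  have h1 := h (c⁻¹ * a)
  rw [mul_inv_cancel_left₀ hc] at h1
  rw [← h1]; group

lemma torus_flip {v u : Kˣ} (hu : u ^ q = u) (k : Fin 6) {c : FF f} (hc : c ≠ 0)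
    (hch : chi q k (v : K) (u : K) = c) (a : FF f) :
    E f q k a * tel f q v u = tel f q v u * E f q k (c⁻¹ * a) := by
  refine conj_flip f hf hc (fun b => ?_) a
  rw [E, tel_conj f hf hK hu (par_ff f hf k b), hch]
  rfl

lemma ff_unit {u : FF f} (hu : u ≠ 0) : ∃ w : Kˣ, (w : K) = u ∧ w ^ q = w :=
  ⟨Units.mk0 _ fun h => hu (Subtype.ext h), rfl, Units.ext (by simpa using ff_pow f hf u)⟩

/-- The nontrivial weight spaces of the centre are alike. -/
lemma finrank_U_le {δ δ' : AddChar (FF f) ℂ} (hδ : δ ≠ 1) (hδ' : δ' ≠ 1) :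
    finrank ℂ (U f ρ q δ) ≤ finrank ℂ (U f ρ q δ') := by
  obtain ⟨m, rfl⟩ := (mulShift_bijective hδ).2 δ'
  have hm : m ≠ 0 := fun h => hδ' (by rw [h, AddChar.mulShift_zero])
  obtain ⟨w, hw, hwq⟩ := ff_unit f hf hK hq hm
  refine finrank_le_of_map ρ (tel f q 1 w) fun v hv => ⟨?_, ?_⟩
  · exact map_weight ρ (torus_flip f hf hK hq hwq 5 hm (by simp [chi, hw]))
      (fun a => by simp) hv.1
  · refine map_weight ρ (torus_flip f hf hK hq hwq 4 (inv_ne_zero hm) (by simp [chi, hw]))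
      (fun a => ?_) hv.2
    rw [inv_inv, AddChar.mulShift_apply]

/-- The transfer between the two weight spaces by the Weyl element of the central node. -/
lemma exists_transfer : ∃ c : FF f, c ≠ 0 ∧ ∀ δ : AddChar (FF f) ℂ,
    finrank ℂ (U f ρ q δ) ≤
      finrank ℂ (W5 f ρ q (δ.mulShift c) ⊓ weight ρ (E f q 4) (1 : AddChar (FF f) ℂ) : Submodule ℂ V) := by
  obtain ⟨c, hc, h45⟩ := maps_wB f hf hK (4, 5) (by simp)
  obtain ⟨c', hc', h54⟩ := maps_wB f hf hK (5, 4) (by simp)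
  refine ⟨c⁻¹, inv_ne_zero hc, fun δ => finrank_le_of_map ρ (wB f hf hK) fun v hv => ⟨?_, ?_⟩⟩
  · exact map_weight ρ (conj_flip f hf hc h45) (fun a => by rw [AddChar.mulShift_apply]) hv.2
  · exact map_weight ρ (conj_flip f hf hc' h54) (fun a => by simp) hv.1

lemma exists_U_ne_bot (hnt : ∃ a : FF f, ρ (E f q 5 a) ≠ 1) :
    ∃ δ : AddChar (FF f) ℂ, δ ≠ 1 ∧ U f ρ q δ ≠ ⊥ := by
  obtain ⟨a, ha⟩ := hnt
  obtain ⟨v, hv⟩ : ∃ v, ρ (E f q 5 a) v ≠ v := by
    by_contra hc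
    push Not at hc
    exact ha (LinearMap.ext hc)
  obtain ⟨ψ, w, hψ, hw0, -, hw⟩ := exists_weight_ne ρ (W := ⊤) (E_add f hf hK 5)
    (fun _ _ _ => trivial) (Submodule.mem_top (x := v)) hv
  obtain ⟨δ, w', hw'0, hw'5, hw'4⟩ := exists_weight ρ (W := W5 f ρ q ψ) (E_add f hf hK 4)
    (fun b u hu => w5_stable f hf hK hq ρ (E_mem f hf hK 4 b (by omega)) hu) hw hw0
  obtain ⟨m, rfl⟩ := (mulShift_bijective hψ).2 δ
  obtain ⟨c, hc, h54⟩ := maps_wB f hf hK (5, 4) (by simp)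
  obtain ⟨c', hc', h45⟩ := maps_wB f hf hK (4, 5) (by simp)
  set w'' := ρ (E f q 1 m) w'
  have h5 : w'' ∈ W5 f ρ q ψ := w5_stable f hf hK hq ρ (E_mem f hf hK 1 m (by omega)) hw'5
  have h4 : w'' ∈ weight ρ (E f q 4) (1 : AddChar (FF f) ℂ) := by
    refine (mem_weight ρ _).2 fun d => ?_
    have e : E f q 4 d * E f q 1 m = E f q 1 m * (E f q 4 d * E f q 5 (-(m * d))) := by
      rw [← conj_one_four f hf hK m d, E_neg f hf hK]; group
    show ρ (E f q 4 d) (ρ (E f q 1 m) w') = _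
    rw [← apply_mul, e, apply_mul, apply_mul, (mem_weight ρ _).1 hw'5, map_smul,
      (mem_weight ρ _).1 hw'4, AddChar.one_apply, one_smul, AddChar.mulShift_apply, smul_smul,
      ← AddChar.map_add_eq_mul, neg_add_cancel, AddChar.map_zero_eq_one, one_smul]
  refine ⟨ψ.mulShift c⁻¹, mulShift_ne_one hψ (inv_ne_zero hc), (Submodule.ne_bot_iff _).2
    ⟨ρ (wB f hf hK) w'', ⟨?_, ?_⟩, fun h => hw'0 ?_⟩⟩
  · exact map_weight ρ (conj_flip f hf hc' h45) (fun a => by simp) h4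
  · exact map_weight ρ (conj_flip f hf hc h54) (fun a => by rw [AddChar.mulShift_apply]) h5
  · have := congrArg (ρ (wB f hf hK * E f q 1 m)⁻¹) h
    rw [map_zero, ← apply_mul ρ (wB f hf hK), ← apply_mul, inv_mul_cancel, map_one] at this
    exact this

/-- The shift of the weights of the third layer by the outer one. -/
noncomputable def shift (δ : AddChar (FF f) ℂ) (t : K) : AddChar K ℂ where
  toFun c := δ (tr f hf hK (t * c))
  map_zero_eq_one' := by
    rw [← AddChar.map_zero_eq_one δ]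
    congr 1
    exact Subtype.ext (show t * 0 + (t * 0) ^ q + ((t * 0) ^ q) ^ q = 0 by
      rw [mul_zero, ← hf, map_zero, ← hf, map_zero, add_zero, add_zero])
  map_add_eq_mul' a b := by rw [mul_add, tr_add f hf hK, AddChar.map_add_eq_mul]

lemma shift_bijective {δ : AddChar (FF f) ℂ} (hδ : δ ≠ 1) :
    Function.Bijective (shift f hf hK δ) := by
  refine (Fintype.bijective_iff_injective_and_card _).2 ⟨fun t s h => ?_, AddChar.card_eq.symm⟩
  by_contra hne
  obtain ⟨x, hx⟩ := exists_tr_ne f hf hK hq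
  refine hδ (DFunLike.ext _ _ fun a => ?_)
  set b : K := ((a / tr f hf hK x : FF f) : K)
  have hts : t - s ≠ 0 := sub_ne_zero.2 hne
  have h1 : δ (tr f hf hK (t * (b * x / (t - s)))) = δ (tr f hf hK (s * (b * x / (t - s)))) :=
    DFunLike.congr_fun h _
  rw [show t * (b * x / (t - s)) = b * x + s * (b * x / (t - s)) by field_simp; ring,
    tr_add f hf hK, tr_smul f hf hK, div_mul_cancel₀ _ hx, AddChar.map_add_eq_mul] at h1
  rw [AddChar.one_apply]
  exact mul_right_cancel₀ (δ.val_isUnit _).ne_zero (h1.trans (one_mul _).symm)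

lemma el_three_add (a b : K) : el f q 3 (a + b) = el f q 3 a * el f q 3 b :=
  el_add f hf hK (par_big (Or.inr (Or.inr rfl)) a) (par_big (Or.inr (Or.inr rfl)) b)

lemma shift_weight {δ : AddChar (FF f) ℂ} (t : K) {φ : AddChar K ℂ} {v : V}
    (hv : v ∈ U f ρ q δ ⊓ weight ρ (el f q 3) φ) :
    ρ (el f q 0 t) v ∈ U f ρ q δ ⊓ weight ρ (el f q 3) ((φ * shift f hf hK δ t : AddChar K ℂ)) := by
  have h0 : el f q 0 t ∈ lay f 0 := el_mem f hf hK (par_big (Or.inl rfl) t) le_rfl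
  refine ⟨u_stable_zero f hf hK hq ρ h0 hv.1, (mem_weight ρ _).2 fun c => ?_⟩
  have e : el f q 3 c * el f q 0 t = el f q 0 t * (el f q 3 c * E f q 4 (tr f hf hK (t * c))) := by
    rw [← conj_zero_three f hf hK t c, el_neg f hf hK (par_big (Or.inl rfl) t)]; group
  rw [← apply_mul, e, apply_mul, apply_mul, (mem_weight ρ _).1 hv.1.2, map_smul,
    (mem_weight ρ _).1 hv.2, AddChar.mul_apply, map_smul, map_smul, smul_smul, mul_comm (φ c)]
  rfl

lemma pow_three_mul_le {δ : AddChar (FF f) ℂ} (hδ : δ ≠ 1) :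
    q ^ 3 * finrank ℂ (P f ρ q δ) ≤ finrank ℂ (U f ρ q δ) := by
  classical
  refine le_trans ?_ (sum_finrank_le ρ (T := el f q 3) (fun φ : AddChar K ℂ => φ)
    (fun _ _ h => h) (U f ρ q δ))
  have h : ∀ φ ∈ (Finset.univ : Finset (AddChar K ℂ)), finrank ℂ (P f ρ q δ) ≤
      finrank ℂ (U f ρ q δ ⊓ weight ρ (el f q 3) φ : Submodule ℂ V) := by
    intro φ _
    obtain ⟨t, ht⟩ := (shift_bijective f hf hK hq hδ).2 φ
    refine finrank_le_of_map ρ (el f q 0 t) fun v hv => ?_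
    have := shift_weight f hf hK hq ρ t hv
    rwa [one_mul, ht] at this
  have := Finset.card_nsmul_le_sum _ _ _ h
  rwa [Finset.card_univ, AddChar.card_eq, hK, smul_eq_mul] at this

lemma P_ne_bot {δ : AddChar (FF f) ℂ} (hδ : δ ≠ 1) (hU : U f ρ q δ ≠ ⊥) :
    P f ρ q δ ≠ ⊥ := by
  obtain ⟨v, hv, hv0⟩ := Submodule.exists_mem_ne_zero_of_ne_bot hU
  obtain ⟨φ, w, hw0, hwU, hw⟩ := exists_weight ρ (W := U f ρ q δ) (el_three_add f hf hK hq)
    (fun c u hu => u_stable_one f hf hK hq ρ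
      (el_mem f hf hK (par_big (Or.inr (Or.inr rfl)) c) (by decide)) hu) hv hv0
  obtain ⟨t, ht⟩ := (shift_bijective f hf hK hq hδ).2 φ⁻¹
  have h := shift_weight f hf hK hq ρ (δ := δ) t ⟨hwU, hw⟩
  rw [ht, mul_inv_cancel] at h
  refine (Submodule.ne_bot_iff _).2 ⟨_, h, fun e => hw0 ?_⟩
  have := congrArg (ρ (el f q 0 t)⁻¹) e
  rw [map_zero, ← apply_mul, inv_mul_cancel, map_one] at this
  exact this

lemma P_stable_one {g : ↥(endoD4 f).fix} (hg : g ∈ lay f 1) {δ : AddChar (FF f) ℂ} {v : V}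
    (hv : v ∈ P f ρ q δ) : ρ g v ∈ P f ρ q δ := by
  refine ⟨u_stable_one f hf hK hq ρ hg hv.1, (mem_weight ρ _).2 fun c => ?_⟩
  rw [apply_comm f hf hK hq ρ hv.1.1 (radical_comm f hf hK
    (inv_mem (el_mem f hf hK (par_big (Or.inr (Or.inr rfl)) c) (by decide))) (inv_mem hg)),
    (mem_weight ρ _).1 hv.2 c, map_smul]

lemma exists_smul {δ : AddChar (FF f) ℂ} (h1 : finrank ℂ (P f ρ q δ) = 1) {v : V}
    (hv : v ∈ P f ρ q δ) (hv0 : v ≠ 0) {w : V} (hw : w ∈ P f ρ q δ) :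
    ∃ c : ℂ, c • v = w := by
  obtain ⟨c, hc⟩ := (finrank_eq_one_iff_of_nonzero' (⟨v, hv⟩ : P f ρ q δ)
    (fun h => hv0 (congrArg Subtype.val h))).1 h1 ⟨w, hw⟩
  exact ⟨c, congrArg Subtype.val hc⟩

/-- When the third layer acts multiplicity free, the vectors fixed by the centre and by the fourth
layer are moved by the first layer. -/
lemma le_fixed {δ : AddChar (FF f) ℂ} (hδ : δ ≠ 1) (h1 : finrank ℂ (P f ρ q δ) = 1) :
    q - 1 ≤ finrank ℂ (U f ρ q 1) := by
  classical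
  haveI : Nontrivial (P f ρ q δ) := Module.nontrivial_of_finrank_eq_succ (n := 0) h1
  obtain ⟨⟨v₀, hv₀⟩, hv₀0'⟩ := exists_ne (0 : P f ρ q δ)
  have hv₀0 : v₀ ≠ 0 := fun h => hv₀0' (Subtype.ext h)
  -- the second layer acts trivially
  have h2add : ∀ a b : K, el f q 2 (a + b) = el f q 2 a * el f q 2 b := fun a b =>
    el_add f hf hK (par_big (Or.inr (Or.inl rfl)) a) (par_big (Or.inr (Or.inl rfl)) b)
  obtain ⟨l₂, w₂, hw₂0, hw₂P, hw₂⟩ := exists_weight ρ (W := P f ρ q δ) h2add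
    (fun c u hu => P_stable_one f hf hK hq ρ
      (el_mem f hf hK (par_big (Or.inr (Or.inl rfl)) c) (by decide)) hu) hv₀ hv₀0
  have hl₂ : ∀ b : K, ρ (el f q 2 b) v₀ = v₀ := by
    obtain ⟨c₀, hc₀⟩ := exists_smul f hf hK hq ρ h1 hw₂P hw₂0 hv₀
    obtain ⟨v, hN, hv2⟩ := exists_norm_one f hf hK hq
    set g := tel f q v 1
    have hu : (1 : Kˣ) ^ q = 1 := one_pow q
    have hg5 : ∀ a, E f q 5 a * g = g * E f q 5 ((1 : FF f)⁻¹ * a) :=
      torus_flip f hf hK hq hu 5 one_ne_zero (by simp [chi])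
    have hg4 : ∀ a, E f q 4 a * g = g * E f q 4 ((1 : FF f)⁻¹ * a) :=
      torus_flip f hf hK hq hu 4 one_ne_zero (by simp [chi, hN])
    have hflip : ∀ k : Fin 6, ∀ s : K, Par q k s → ∀ e : K,
        chi q k (v : K) ((1 : Kˣ) : K) * e = s → Par q k e →
        el f q k s * g = g * el f q k e := by
      intro k s _ e he hpe
      rw [← he, ← tel_conj f hf hK hu hpe]
      show g * el f q k e * g⁻¹ * g = _
      group
    have hgw : ρ g w₂ ∈ P f ρ q δ := by
      refine ⟨⟨map_weight ρ hg5 (fun a => by simp) hw₂P.1.1,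
        map_weight ρ hg4 (fun a => by simp) hw₂P.1.2⟩, ?_⟩
      refine map_weight ρ (e := fun s => s / chi q 3 (v : K) ((1 : Kˣ) : K)) (fun s => ?_)
        (fun s => by simp) hw₂P.2
      refine hflip 3 s (par_big (Or.inr (Or.inr rfl)) s) _ ?_ (par_big (Or.inr (Or.inr rfl)) _)
      refine mul_div_cancel₀ _ ?_
      simp [chi, v.ne_zero]
    obtain ⟨c, hc⟩ := exists_smul f hf hK hq ρ h1 hw₂P hw₂0 hgw
    have hc0 : c ≠ 0 := fun h => hw₂0 (by
      rw [h, zero_smul] at hc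
      have := congrArg (ρ g⁻¹) hc.symm
      rw [map_zero, ← apply_mul, inv_mul_cancel, map_one] at this
      exact this)
    have hfix : ∀ b : K, l₂ ((v : K) ^ 2 * b) = l₂ b := by
      intro b
      have e : el f q 2 ((v : K) ^ 2 * b) * g = g * el f q 2 b := by
        refine hflip 2 _ (par_big (Or.inr (Or.inl rfl)) _) b ?_ (par_big (Or.inr (Or.inl rfl)) b)
        congr 1
        show (1 : K) * v / ((v : K) ^ q * ((v : K) ^ q) ^ q) = (v : K) ^ 2
        have h : ((v : K) ^ q * ((v : K) ^ q) ^ q) ≠ 0 := by simp [v.ne_zero]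
        rw [div_eq_iff h]
        linear_combination (-(v : K)) * hN
      have h := congrArg (fun x => ρ x w₂) e
      simp only [apply_mul, (mem_weight ρ _).1 hw₂, ← hc, map_smul, smul_smul] at h
      rw [mul_comm (l₂ b)] at h
      exact mul_left_cancel₀ hc0 (smul_left_injective ℂ hw₂0 h)
    intro b
    rw [← hc₀, map_smul, (mem_weight ρ _).1 hw₂]
    have hz : (v : K) ^ 2 - 1 ≠ 0 := sub_ne_zero.2 hv2
    have h := hfix (b / ((v : K) ^ 2 - 1))
    rw [show (v : K) ^ 2 * (b / ((v : K) ^ 2 - 1)) = b + b / ((v : K) ^ 2 - 1) by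
      field_simp; ring, AddChar.map_add_eq_mul] at h
    rw [show l₂ b = 1 from mul_right_cancel₀ (l₂.val_isUnit _).ne_zero (h.trans (one_mul _).symm),
      one_smul]
  -- the weight of the first layer
  obtain ⟨l₁, w₁, hw₁0, hw₁P, hw₁⟩ := exists_weight ρ (W := P f ρ q δ) (E_add f hf hK 1)
    (fun c u hu => P_stable_one f hf hK hq ρ (E_mem f hf hK 1 c le_rfl) hu) hv₀ hv₀0
  obtain ⟨μ, rfl⟩ := (mulShift_bijective hδ).2 l₁
  have hl₂' : ∀ b : K, ρ (el f q 2 b) w₁ = w₁ := fun b => by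
    obtain ⟨c, hc⟩ := exists_smul f hf hK hq ρ h1 hv₀ hv₀0 hw₁P
    rw [← hc, map_smul, hl₂]
  obtain ⟨v', hv'0, hv'U, hv'1⟩ : ∃ v' : V, v' ≠ 0 ∧ v' ∈ U f ρ q δ ∧
      v' ∈ weight ρ (E f q 1) (1 : AddChar (FF f) ℂ) := by
    by_cases hμ : μ = 0
    · subst hμ
      rw [AddChar.mulShift_zero] at hw₁
      exact ⟨w₁, hw₁0, hw₁P.1, hw₁⟩
    obtain ⟨t, ht⟩ := exists_conj_one f hf hK hq (neg_ne_zero.2 hμ)
    set A := el f q 0 t
    have hA : A ∈ lay f 0 := el_mem f hf hK (par_big (Or.inl rfl) t) le_rfl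
    refine ⟨ρ A⁻¹ w₁, fun h => hw₁0 ?_, u_stable_zero f hf hK hq ρ (inv_mem hA) hw₁P.1,
      (mem_weight ρ _).2 fun a => ?_⟩
    · have := congrArg (ρ A) h
      rw [map_zero, ← apply_mul, mul_inv_cancel, map_one] at this
      exact this
    obtain ⟨x, y, z, he⟩ := ht a
    have e : E f q 1 a * A⁻¹ = A⁻¹ * (A * E f q 1 a * A⁻¹) := by group
    rw [← apply_mul, e, apply_mul, he]
    simp only [apply_mul]
    rw [(mem_weight ρ _).1 hw₁P.1.1 z, AddChar.one_apply, one_smul,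
      (mem_weight ρ _).1 hw₁P.1.2, map_smul, map_smul, map_smul,
      (mem_weight ρ _).1 hw₁P.2 y, AddChar.one_apply, one_smul, hl₂',
      (mem_weight ρ _).1 hw₁ a, smul_smul, AddChar.mulShift_apply, ← AddChar.map_add_eq_mul,
      neg_mul, neg_add_cancel, AddChar.map_zero_eq_one, one_smul, AddChar.one_apply, one_smul]
  -- move it to the fourth layer
  obtain ⟨c, hc, h14⟩ := maps_wA f hf hK (1, 4) (by simp)
  obtain ⟨c', hc', h41⟩ := maps_wA f hf hK (4, 1) (by simp)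
  obtain ⟨c'', hc'', h55⟩ := maps_wA f hf hK (5, 5) (by simp)
  set u₀ := ρ (wA f hf hK) v' with hu₀
  have hu₀0 : u₀ ≠ 0 := fun h => hv'0 (by
    have := congrArg (ρ (wA f hf hK)⁻¹) h
    rw [map_zero, hu₀, ← apply_mul, inv_mul_cancel, map_one] at this
    exact this)
  have hu₀U : u₀ ∈ U f ρ q 1 :=
    ⟨map_weight ρ (conj_flip f hf hc'' h55) (fun a => by simp) hv'U.1,
      map_weight ρ (conj_flip f hf hc h14) (fun a => by simp) hv'1⟩
  set δ' := δ.mulShift c'⁻¹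
  have hδ' : δ' ≠ 1 := mulShift_ne_one hδ (inv_ne_zero hc')
  have hu₀1 : u₀ ∈ weight ρ (E f q 1) δ' :=
    map_weight ρ (conj_flip f hf hc' h41) (fun a => by rw [AddChar.mulShift_apply]) hv'U.2
  have hlow : ∀ m ∈ (Finset.univ : Finset {m : FF f // m ≠ 0}),
      1 ≤ finrank ℂ (U f ρ q 1 ⊓ weight ρ (E f q 1) (δ'.mulShift m.1) : Submodule ℂ V) := by
    rintro ⟨m, hm⟩ -
    rw [Submodule.one_le_finrank_iff]
    obtain ⟨k, hk, hkq⟩ := ff_unit f hf hK hq (inv_ne_zero hm)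
    have hk2 : (k ^ 2) ^ q = k ^ 2 := by rw [← pow_mul, mul_comm, pow_mul, hkq]
    have hkK : (k : K) ^ q = k := by rw [← Units.val_pow_eq_pow_val, hkq]
    have hi : (m⁻¹ : FF f) ≠ 0 := inv_ne_zero hm
    refine (Submodule.ne_bot_iff _).2 ⟨ρ (tel f q k (k ^ 2)) u₀, ⟨⟨?_, ?_⟩, ?_⟩, fun h => hu₀0 ?_⟩
    · refine map_weight ρ (torus_flip f hf hK hq hk2 5 (pow_ne_zero 2 hi) ?_) (fun a => by simp)
        hu₀U.1
      simp [chi, hk]
    · refine map_weight ρ (torus_flip f hf hK hq hk2 4 hi ?_) (fun a => by simp) hu₀U.2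
      show (k : K) * (k : K) ^ q * ((k : K) ^ q) ^ q / ((k ^ 2 : Kˣ) : K) = _
      rw [hkK, hkK, Units.val_pow_eq_pow_val, ← hk]
      field_simp
    · refine map_weight ρ (torus_flip f hf hK hq hk2 1 hi ?_) (fun a => ?_) hu₀1
      · show ((k ^ 2 : Kˣ) : K) ^ 2 / ((k : K) * (k : K) ^ q * ((k : K) ^ q) ^ q) = _
        rw [hkK, hkK, Units.val_pow_eq_pow_val, ← hk]
        field_simp
      · rw [inv_inv, AddChar.mulShift_apply]
    · have := congrArg (ρ (tel f q k (k ^ 2))⁻¹) h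
      rw [map_zero, ← apply_mul, inv_mul_cancel, map_one] at this
      exact this
  refine le_trans ?_ (sum_finrank_le ρ (T := E f q 1)
    (fun m : {m : FF f // m ≠ 0} => δ'.mulShift m.1)
    (fun a b h => Subtype.ext ((mulShift_bijective hδ').1 h)) (U f ρ q 1))
  refine le_trans ?_ (Finset.card_nsmul_le_sum _ _ _ hlow)
  rw [smul_eq_mul, mul_one, Finset.card_univ, Fintype.card_subtype_compl,
    Fintype.card_subtype_eq, card_ff f hf hK hq]

/-- The bound from the weights. -/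
theorem degree_ge (hnt : ∃ a : FF f, ρ (E f q 5 a) ≠ 1) :
    q ^ 5 - q ^ 3 + q - 1 ≤ finrank ℂ V := by
  classical
  obtain ⟨δ, hδ, hU⟩ := exists_U_ne_bot f hf hK hq ρ hnt
  set e := finrank ℂ (U f ρ q δ) with he
  set f0 := finrank ℂ (U f ρ q 1)
  obtain ⟨c, hc, htr⟩ := exists_transfer f hf hK hq ρ
  have h2 := hq.two_le
  set S := {m : FF f // m ≠ 0}
  have hS : Fintype.card S = q - 1 := by
    rw [Fintype.card_subtype_compl, Fintype.card_subtype_eq, card_ff f hf hK hq]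
  -- the fixed vectors of the centre
  have hW0 : (q - 1) * e + f0 ≤ finrank ℂ (W5 f ρ q 1) := by
    refine le_trans ?_ (sum_finrank_le ρ (T := E f q 4)
      (fun m : FF f => δ.mulShift m) (mulShift_bijective hδ).1 (W5 f ρ q 1))
    rw [← Finset.add_sum_erase _ _ (Finset.mem_univ (0 : FF f)), AddChar.mulShift_zero, add_comm]
    refine Nat.add_le_add le_rfl ?_
    refine le_trans (le_of_eq ?_) (Finset.card_nsmul_le_sum _ _ e fun m hm => ?_)
    · rw [Finset.card_erase_of_mem (Finset.mem_univ _), Finset.card_univ, card_ff f hf hK hq,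
        smul_eq_mul]
    · exact finrank_U_le f hf hK hq ρ hδ (mulShift_ne_one hδ (Finset.mem_erase.1 hm).1)
  -- the other weight spaces of the centre
  have hW : ∀ ψ : AddChar (FF f) ℂ, ψ ≠ 1 → q * e ≤ finrank ℂ (W5 f ρ q ψ) := by
    intro ψ hψ
    have hX : e ≤ finrank ℂ
        (W5 f ρ q ψ ⊓ weight ρ (E f q 4) (1 : AddChar (FF f) ℂ) : Submodule ℂ V) := by
      obtain ⟨m, hm⟩ := (mulShift_bijective hδ).2 (ψ.mulShift c⁻¹)
      have hne : δ.mulShift m ≠ 1 := hm ▸ mulShift_ne_one hψ (inv_ne_zero hc)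
      refine (finrank_U_le f hf hK hq ρ hδ hne).trans ((htr _).trans (le_of_eq ?_))
      rw [hm, show (ψ.mulShift c⁻¹).mulShift c = ψ from DFunLike.ext _ _ fun x => by
        rw [AddChar.mulShift_apply, AddChar.mulShift_apply, inv_mul_cancel_left₀ hc]]
    refine le_trans ?_ (sum_finrank_le ρ (T := E f q 4)
      (fun m : FF f => ψ.mulShift m) (mulShift_bijective hψ).1 (W5 f ρ q ψ))
    refine le_trans (le_of_eq ?_) (Finset.card_nsmul_le_sum _ _ e fun m _ => hX.trans ?_)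
    · rw [Finset.card_univ, card_ff f hf hK hq, smul_eq_mul]
    refine finrank_le_of_map ρ (E f q 1 (-m)) fun v hv =>
      ⟨w5_stable f hf hK hq ρ (E_mem f hf hK 1 _ (by omega)) hv.1, (mem_weight ρ _).2 fun d => ?_⟩
    have h14 : E f q 4 d * E f q 1 (-m) = E f q 1 (-m) * (E f q 4 d * E f q 5 (m * d)) := by
      rw [show m * d = -(-m * d) by ring, ← conj_one_four f hf hK (-m) d, E_neg f hf hK]; group
    rw [← apply_mul, h14, apply_mul, apply_mul, (mem_weight ρ _).1 hv.1, map_smul,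
      (mem_weight ρ _).1 hv.2, AddChar.one_apply, one_smul, AddChar.mulShift_apply, map_smul]
  have htot : (q - 1) * (q * e) + ((q - 1) * e + f0) ≤ finrank ℂ V := by
    refine le_trans ?_ ((sum_finrank_le ρ (T := E f q 5)
      (fun m : FF f => δ.mulShift m) (mulShift_bijective hδ).1 ⊤).trans (Submodule.finrank_le _))
    rw [← Finset.add_sum_erase _ _ (Finset.mem_univ (0 : FF f)), AddChar.mulShift_zero, top_inf_eq,
      add_comm]
    refine Nat.add_le_add hW0 ?_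
    refine le_trans (le_of_eq ?_) (Finset.card_nsmul_le_sum _ _ (q * e) fun m hm => ?_)
    · rw [Finset.card_erase_of_mem (Finset.mem_univ _), Finset.card_univ, card_ff f hf hK hq,
        smul_eq_mul]
    · rw [top_inf_eq]
      exact hW _ (mulShift_ne_one hδ (Finset.mem_erase.1 hm).1)
  have hP1 : 1 ≤ finrank ℂ (P f ρ q δ) :=
    Submodule.one_le_finrank_iff.2 (P_ne_bot f hf hK hq ρ hδ hU)
  have hP := pow_three_mul_le f hf hK hq ρ hδ
  rw [← he] at hP
  obtain ⟨r, rfl⟩ : ∃ r, q = r + 1 := ⟨q - 1, by omega⟩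
  simp only [Nat.add_sub_cancel] at htot ⊢
  have e5 : (r + 1) ^ 5 - (r + 1) ^ 3 = r * ((r + 1) + 1) * (r + 1) ^ 3 :=
    Nat.sub_eq_of_eq_add (by ring)
  have htot' : r * ((r + 1) + 1) * e + f0 ≤ finrank ℂ V := le_of_eq_of_le (by ring) htot
  rcases Nat.eq_or_lt_of_le ((Nat.le_mul_of_pos_right _ hP1).trans hP) with heq | hgt
  · have hone : finrank ℂ (P f ρ (r + 1) δ) = 1 := by
      have hpos : 0 < (r + 1) ^ 3 := pow_pos (by omega) 3
      rcases Nat.lt_or_ge 1 (finrank ℂ (P f ρ (r + 1) δ)) with h | h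
      · have := Nat.mul_lt_mul_of_pos_left h hpos
        omega
      · omega
    have h0 : r + 1 - 1 ≤ f0 := le_fixed f hf hK hq ρ hδ hone
    rw [← heq] at htot'
    omega
  · have h0 : r * ((r + 1) + 1) * ((r + 1) ^ 3 + 1) ≤ r * ((r + 1) + 1) * e :=
      Nat.mul_le_mul_left _ hgt
    have h1 : r + 1 ≤ r * ((r + 1) + 1) := by nlinarith
    rw [Nat.mul_succ] at h0
    omega

end CfsgLib.D4MinDegree
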